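import Mathlib
import Groth.Prelude

/-!
# Essentially étale local algebras over a reduced Noetherian local ring: generic fibres

Elementary consequences of "formally unramified + essentially of finite type + flat" over a
reduced Noetherian base `A`, obtained by looking at the (Artinian, reduced) fibres over the
minimal primes of `A` and a prime avoidance argument.
-/

set_option linter.style.haveILetI false
set_option linter.unusedVariables false
set_option linter.unusedSectionVars false
set_option linter.overlappingInstances false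
set_option autoImplicit false
set_option backward.isDefEq.respectTransparency.types false
set_option backward.isDefEq.respectTransparency false
set_option synthInstance.maxHeartbeats 400000
set_option maxHeartbeats 1600000

universe u

open IsLocalRing TensorProduct

namespace Groth.Agent.Helper7.SemiNorm

section PA

variable {A : Type u} [CommRing A]

theorem mem_nonZeroDivisors_of_forall_notMem [IsReduced A] {s : A}
    (hs : ∀ p ∈ minimalPrimes A, s ∉ p) : s ∈ nonZeroDivisors A := by
  rw [mem_nonZeroDivisors_iff_right]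
  intro a ha
  have h1 : a ∈ sInf (minimalPrimes A) := by
    rw [Ideal.mem_sInf]
    intro p hp
    have hp' : p.IsPrime := hp.1.1
    have h2 : a * s ∈ p := by rw [ha]; exact zero_mem _
    exact (hp'.mem_or_mem h2).resolve_right (hs p hp)
  have h2 : sInf (minimalPrimes A) = (⊥ : Ideal A) := by
    have h3 : sInf (minimalPrimes A) = (⊥ : Ideal A).radical :=
      Ideal.sInf_minimalPrimes (I := (⊥ : Ideal A))
    rw [h3, ← Ideal.zero_eq_bot]
    exact nilradical_eq_zero A
  rw [h2] at h1
  exact (Ideal.mem_bot).mp h1

theorem exists_mem_nonZeroDivisors_of_forall_not_le [IsReduced A] [IsNoetherianRing A]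
    (J : Ideal A) (hJ : ∀ p ∈ minimalPrimes A, ¬ J ≤ p) : ∃ s ∈ J, s ∈ nonZeroDivisors A := by
  classical
  have hfin := minimalPrimes.finite_of_isNoetherianRing A
  by_contra hcon
  push Not at hcon
  obtain ⟨p, hp, hle⟩ := (Ideal.subset_union_prime (R := A) (s := hfin.toFinset)
      (f := fun p => p) ⊥ ⊥
      (fun p hp _ _ => ((hfin.mem_toFinset).mp hp).1.1)).mp (by
    intro s hs
    by_contra h2
    refine hcon s hs (mem_nonZeroDivisors_of_forall_notMem fun p hp hsp => h2 ?_)
    exact Set.mem_iUnion₂.mpr ⟨p, Finset.mem_coe.mpr ((hfin.mem_toFinset).mpr hp), hsp⟩)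
  exact hJ p ((hfin.mem_toFinset).mp hp) hle

theorem exists_mul_eq_zero_of_mem_minimalPrimes [IsReduced A] {p : Ideal A}
    (hp : p ∈ minimalPrimes A) {a : A} (ha : a ∈ p) : ∃ t, t ∉ p ∧ t * a = 0 := by
  haveI : p.IsPrime := hp.1.1
  have h1 := IsLocalization.AtPrime.radical_map_of_mem_minimalPrimes
    (A := Localization.AtPrime p) p (⊥ : Ideal A) hp
  rw [Ideal.map_bot] at h1
  have h3 : algebraMap A (Localization.AtPrime p) a = 0 := by
    have h4 : algebraMap A (Localization.AtPrime p) a ∈
        p.map (algebraMap A (Localization.AtPrime p)) := Ideal.mem_map_of_mem _ ha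
    rw [← h1] at h4
    obtain ⟨n, hn⟩ := Ideal.mem_radical_iff.mp h4
    exact IsNilpotent.eq_zero ⟨n, (Ideal.mem_bot).mp hn⟩
  obtain ⟨t, ht⟩ :=
    (IsLocalization.map_eq_zero_iff p.primeCompl (Localization.AtPrime p) a).mp h3
  exact ⟨t.1, t.2, ht⟩

theorem isLocalization_residueField [IsReduced A] {p : Ideal A} [p.IsPrime]
    (hp : p ∈ minimalPrimes A) : IsLocalization.AtPrime p.ResidueField p := by
  refine (isLocalization_iff _ _).mpr ⟨?_, ?_, ?_⟩
  · rintro ⟨y, hy⟩
    rw [isUnit_iff_ne_zero, Ne, Ideal.algebraMap_residueField_eq_zero]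
    exact hy
  · intro z
    obtain ⟨x, rfl⟩ := IsLocalRing.residue_surjective (R := Localization.AtPrime p) z
    obtain ⟨⟨a, s⟩, h⟩ := IsLocalization.surj p.primeCompl x
    refine ⟨⟨a, s⟩, ?_⟩
    have h5 := congrArg (IsLocalRing.residue (Localization.AtPrime p)) h
    rw [map_mul] at h5
    rw [IsScalarTower.algebraMap_apply A (Localization.AtPrime p) p.ResidueField,
      IsScalarTower.algebraMap_apply A (Localization.AtPrime p) p.ResidueField]
    exact h5
  · intro x y hxy
    have h1 : x - y ∈ p := by
      rw [← Ideal.algebraMap_residueField_eq_zero, map_sub, hxy, sub_self]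
    obtain ⟨t, ht, h0⟩ := exists_mul_eq_zero_of_mem_minimalPrimes hp h1
    refine ⟨⟨t, ht⟩, ?_⟩
    have h2 : t * x - t * y = 0 := by rw [← mul_sub]; exact h0
    exact sub_eq_zero.mp h2

theorem exists_smul_eq_zero_of_one_tmul_eq_zero [IsReduced A] {M : Type u} [AddCommGroup M]
    [Module A M] {p : Ideal A} [p.IsPrime] (hp : p ∈ minimalPrimes A) {m : M}
    (h : (1 : p.ResidueField) ⊗ₜ[A] m = 0) : ∃ t, t ∉ p ∧ t • m = 0 := by
  haveI := isLocalization_residueField hp
  have hb : IsBaseChange p.ResidueField (TensorProduct.mk A p.ResidueField M 1) :=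
    TensorProduct.isBaseChange A M p.ResidueField
  haveI hlm : IsLocalizedModule p.primeCompl (TensorProduct.mk A p.ResidueField M 1) :=
    (isLocalizedModule_iff_isBaseChange p.primeCompl p.ResidueField _).mpr hb
  obtain ⟨t, ht⟩ := (IsLocalizedModule.eq_zero_iff (S := p.primeCompl)
    (f := TensorProduct.mk A p.ResidueField M 1)).mp h
  exact ⟨t.1, t.2, ht⟩

end PA

section Fib

variable {A E : Type u} [CommRing A] [IsReduced A] [IsNoetherianRing A] [CommRing E]
  [Algebra A E] [Algebra.FormallyUnramified A E] [Algebra.EssFiniteType A E] [Module.Flat A E]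

theorem fiber_finite (p : Ideal A) [p.IsPrime] :
    Module.Finite p.ResidueField (p.ResidueField ⊗[A] E) :=
  Algebra.FormallyUnramified.finite_of_free _ _

theorem fiber_reduced (p : Ideal A) [p.IsPrime] : IsReduced (p.ResidueField ⊗[A] E) :=
  Algebra.FormallyUnramified.isReduced_of_field p.ResidueField _

omit [IsNoetherianRing A] [Algebra.FormallyUnramified A E] [Algebra.EssFiniteType A E]
  [Module.Flat A E] in
theorem one_tmul_algebraMap (p : Ideal A) [p.IsPrime] (r : A) :
    (1 : p.ResidueField) ⊗ₜ[A] (algebraMap A E r) = r • (1 : p.ResidueField ⊗[A] E) := by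
  rw [Algebra.algebraMap_eq_smul_one, TensorProduct.tmul_smul, Algebra.TensorProduct.one_def]

theorem isReduced_of_unramified (A : Type u) {E : Type u} [CommRing A] [IsReduced A]
    [IsNoetherianRing A] [CommRing E] [Algebra A E] [Algebra.FormallyUnramified A E]
    [Algebra.EssFiniteType A E] [Module.Flat A E] : IsReduced E := by
  constructor
  intro e he
  let J : Ideal A := LinearMap.ker (LinearMap.toSpanSingleton A E e)
  have hJmem : ∀ a : A, a ∈ J ↔ a • e = 0 := fun a => by
    simp only [J, LinearMap.mem_ker, LinearMap.toSpanSingleton_apply]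
  have hJ : ∀ p ∈ minimalPrimes A, ¬ J ≤ p := by
    intro p hp hle
    haveI : p.IsPrime := hp.1.1
    haveI : IsReduced (p.ResidueField ⊗[A] E) := fiber_reduced p
    have h1 : IsNilpotent ((1 : p.ResidueField) ⊗ₜ[A] e) := by
      have h2 := he.map (Algebra.TensorProduct.includeRight : E →ₐ[A] p.ResidueField ⊗[A] E)
      simpa using h2
    obtain ⟨t, ht, h0⟩ := exists_smul_eq_zero_of_one_tmul_eq_zero hp h1.eq_zero
    exact ht (hle ((hJmem t).mpr h0))
  obtain ⟨s, hsJ, hs⟩ := exists_mem_nonZeroDivisors_of_forall_not_le J hJ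
  have h3 : s • e = 0 := (hJmem s).mp hsJ
  have h4 : IsSMulRegular E s := Module.Flat.isSMulRegular_of_nonZeroDivisors hs
  exact h4 (show s • e = s • (0 : E) by rw [h3, smul_zero])

theorem exists_mul_eq_algebraMap_of_mem_nonZeroDivisors {e' : E}
    (he' : e' ∈ nonZeroDivisors E) :
    ∃ e'' : E, ∃ s ∈ nonZeroDivisors A, e' * e'' = algebraMap A E s := by
  let J : Ideal A := Ideal.comap (algebraMap A E) (Ideal.span {e'})
  have hJ : ∀ p ∈ minimalPrimes A, ¬ J ≤ p := by
    intro p hp hle
    haveI : p.IsPrime := hp.1.1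
    haveI := isLocalization_residueField hp
    haveI : Module.Flat A p.ResidueField := IsLocalization.flat p.ResidueField p.primeCompl
    haveI : Module.Finite p.ResidueField (p.ResidueField ⊗[A] E) := fiber_finite p
    haveI : IsArtinianRing (p.ResidueField ⊗[A] E) := IsArtinianRing.of_finite p.ResidueField _
    have hmulinj : Function.Injective (LinearMap.mulLeft A e') := by
      intro a b hab
      have h4 : e' * a = e' * b := hab
      have h5 : (a - b) * e' = 0 := by
        rw [sub_mul, mul_comm a, mul_comm b, h4, sub_self]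
      exact sub_eq_zero.mp ((mem_nonZeroDivisors_iff_right.mp he') _ h5)
    have hinj : Function.Injective ((LinearMap.mulLeft A e').lTensor p.ResidueField) :=
      Module.Flat.lTensor_preserves_injective_linearMap _ hmulinj
    have hmul : ∀ w : p.ResidueField ⊗[A] E,
        (LinearMap.mulLeft A e').lTensor p.ResidueField w = ((1 : p.ResidueField) ⊗ₜ[A] e') * w := by
      intro w
      induction w using TensorProduct.induction_on with
      | zero => simp
      | tmul a b => simp [Algebra.TensorProduct.tmul_mul_tmul]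
      | add x y hx hy => rw [map_add, hx, hy, mul_add]
    have hx : (1 : p.ResidueField) ⊗ₜ[A] e' ∈ nonZeroDivisors (p.ResidueField ⊗[A] E) := by
      rw [mem_nonZeroDivisors_iff_right]
      intro z hz
      apply hinj
      rw [hmul, map_zero, mul_comm]
      exact hz
    have hu := IsArtinianRing.isUnit_of_mem_nonZeroDivisors hx
    obtain ⟨z, hz⟩ := hu.exists_right_inv
    obtain ⟨r, hr, e'', hre⟩ := Ideal.Fiber.exists_smul_eq_one_tmul p z
    have h0 : (1 : p.ResidueField) ⊗ₜ[A] (e' * e'' - algebraMap A E r) = 0 := by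
      have h1 : ((1 : p.ResidueField) ⊗ₜ[A] e') * (r • z) =
          r • (1 : p.ResidueField ⊗[A] E) := by
        rw [mul_smul_comm, hz]
      rw [hre, Algebra.TensorProduct.tmul_mul_tmul, one_mul] at h1
      rw [TensorProduct.tmul_sub, h1, one_tmul_algebraMap, sub_self]
    obtain ⟨t, ht, h0'⟩ := exists_smul_eq_zero_of_one_tmul_eq_zero hp h0
    have h6 : t • (e' * e'') = t • algebraMap A E r := by
      rw [smul_sub] at h0'
      exact sub_eq_zero.mp h0'
    have hmem : t * r ∈ J := by
      change algebraMap A E (t * r) ∈ Ideal.span {e'}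
      rw [Ideal.mem_span_singleton']
      refine ⟨t • e'', ?_⟩
      calc (t • e'') * e' = t • (e' * e'') := by rw [smul_mul_assoc, mul_comm]
        _ = t • algebraMap A E r := h6
        _ = algebraMap A E (t * r) := by rw [Algebra.smul_def, map_mul]
    exact ((inferInstance : p.IsPrime).mul_mem_iff_mem_or_mem.mp (hle hmem)).elim ht hr
  obtain ⟨s, hsJ, hs⟩ := exists_mem_nonZeroDivisors_of_forall_not_le J hJ
  obtain ⟨e'', he''⟩ := Ideal.mem_span_singleton'.mp hsJ
  exact ⟨e'', s, hs, by rw [mul_comm]; exact he''⟩

theorem exists_mul_eq_algebraMap (x : FractionRing E) :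
    ∃ s ∈ nonZeroDivisors A, ∃ e : E,
      algebraMap A (FractionRing E) s * x = algebraMap E (FractionRing E) e := by
  obtain ⟨⟨e₀, e'⟩, rfl⟩ := IsLocalization.mk'_surjective (nonZeroDivisors E) x
  obtain ⟨e'', s, hs, h⟩ := exists_mul_eq_algebraMap_of_mem_nonZeroDivisors (A := A) e'.2
  refine ⟨s, hs, e'' * e₀, ?_⟩
  rw [IsScalarTower.algebraMap_apply A E (FractionRing E), ← h, map_mul, map_mul]
  have h1 := IsLocalization.mk'_spec' (FractionRing E) e₀ e'
  calc algebraMap E (FractionRing E) e'.1 * algebraMap E (FractionRing E) e'' *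
        IsLocalization.mk' (FractionRing E) e₀ e'
      = algebraMap E (FractionRing E) e'' *
        (algebraMap E (FractionRing E) e'.1 * IsLocalization.mk' (FractionRing E) e₀ e') := by
        ring
    _ = algebraMap E (FractionRing E) e'' * algebraMap E (FractionRing E) e₀ := by rw [h1]

theorem mem_of_mul_eq (L : Subalgebra A (FractionRing E))
    (hL : ∀ s ∈ nonZeroDivisors A, ∃ y ∈ L, algebraMap A (FractionRing E) s * y = 1)
    {e₁ e₂ : E} {s : A} (hs : s ∈ nonZeroDivisors A) (h12 : e₁ * e₂ = algebraMap A E s)
    (h1L : algebraMap E (FractionRing E) e₁ ∈ L) : algebraMap E (FractionRing E) e₂ ∈ L := by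
  classical
  let J : Ideal A := Submodule.comap
    (LinearMap.toSpanSingleton A (FractionRing E) (algebraMap E (FractionRing E) e₂))
    (Subalgebra.toSubmodule L)
  have hJmem : ∀ a : A, a ∈ J ↔ a • algebraMap E (FractionRing E) e₂ ∈ L := fun a => by
    simp only [J, Submodule.mem_comap, LinearMap.toSpanSingleton_apply,
      Subalgebra.mem_toSubmodule]
  have hJ : ∀ p ∈ minimalPrimes A, ¬ J ≤ p := by
    intro p hp hle
    haveI : p.IsPrime := hp.1.1
    haveI := isLocalization_residueField hp
    haveI : Module.Flat A p.ResidueField := IsLocalization.flat p.ResidueField p.primeCompl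
    haveI : Module.Finite p.ResidueField (p.ResidueField ⊗[A] E) := fiber_finite p
    let R₁ : Subalgebra A E := Algebra.adjoin A {e₁}
    let φ : p.ResidueField ⊗[A] R₁ →ₐ[p.ResidueField] p.ResidueField ⊗[A] E :=
      Algebra.TensorProduct.map (AlgHom.id p.ResidueField p.ResidueField) R₁.val
    have hφ : Function.Injective φ := by
      have h := Module.Flat.lTensor_preserves_injective_linearMap (M := p.ResidueField)
        R₁.val.toLinearMap Subtype.val_injective
      exact h
    haveI : Module.Finite p.ResidueField (p.ResidueField ⊗[A] R₁) :=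
      Module.Finite.of_injective φ.toLinearMap hφ
    haveI : IsArtinianRing (p.ResidueField ⊗[A] R₁) := IsArtinianRing.of_finite p.ResidueField _
    let e₁' : R₁ := ⟨e₁, Algebra.subset_adjoin rfl⟩
    have hsp : s ∉ p := fun h =>
      Set.disjoint_left.mp (Ideal.disjoint_nonZeroDivisors_of_mem_minimalPrimes hp) h hs
    have hsu : algebraMap A p.ResidueField s ≠ 0 := by
      rw [Ne, Ideal.algebraMap_residueField_eq_zero]
      exact hsp
    have hx : (1 : p.ResidueField) ⊗ₜ[A] e₁' ∈ nonZeroDivisors (p.ResidueField ⊗[A] R₁) := by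
      rw [mem_nonZeroDivisors_iff_right]
      intro w hw
      apply hφ
      rw [map_zero]
      have h5 : φ w * ((1 : p.ResidueField) ⊗ₜ[A] e₁) = 0 := by
        have h := congrArg φ hw
        rw [map_mul, map_zero] at h
        simpa [φ, e₁'] using h
      have h6 : φ w * ((1 : p.ResidueField) ⊗ₜ[A] e₁) * ((1 : p.ResidueField) ⊗ₜ[A] e₂) = 0 := by
        rw [h5, zero_mul]
      rw [mul_assoc, Algebra.TensorProduct.tmul_mul_tmul, one_mul, h12, one_tmul_algebraMap,
        mul_smul_comm, mul_one] at h6
      have h7 : algebraMap A p.ResidueField s • φ w = 0 := by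
        rw [algebraMap_smul]
        exact h6
      exact (smul_eq_zero.mp h7).resolve_left hsu
    have hu := IsArtinianRing.isUnit_of_mem_nonZeroDivisors hx
    obtain ⟨z, hz⟩ := hu.exists_right_inv
    obtain ⟨r, hr, b, hrb⟩ := Ideal.Fiber.exists_smul_eq_one_tmul p z
    have h8 : (1 : p.ResidueField) ⊗ₜ[A] (e₁' * b - algebraMap A R₁ r) = 0 := by
      have h9 : ((1 : p.ResidueField) ⊗ₜ[A] e₁') * (r • z) =
          r • (1 : p.ResidueField ⊗[A] R₁) := by
        rw [mul_smul_comm, hz]
      rw [hrb, Algebra.TensorProduct.tmul_mul_tmul, one_mul] at h9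
      rw [TensorProduct.tmul_sub, h9, one_tmul_algebraMap, sub_self]
    obtain ⟨t, ht, h10⟩ := exists_smul_eq_zero_of_one_tmul_eq_zero hp h8
    have h11 : t • (e₁ * (b : E) - algebraMap A E r) = 0 := by
      have h := congrArg (Subtype.val) h10
      simpa [e₁'] using h
    have h13 : (t * r) • e₂ = (t * s) • (b : E) := by
      have h14 : t • (e₁ * (b : E)) = t • algebraMap A E r := by
        rw [smul_sub] at h11
        exact sub_eq_zero.mp h11
      calc (t * r) • e₂ = (t • algebraMap A E r) * e₂ := by
            rw [mul_smul, Algebra.smul_def r e₂, smul_mul_assoc]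
        _ = (t • (e₁ * (b : E))) * e₂ := by rw [h14]
        _ = t • ((e₁ * e₂) * (b : E)) := by
            rw [smul_mul_assoc]
            congr 1
            ring
        _ = (t * s) • (b : E) := by rw [h12, ← Algebra.smul_def, mul_smul]
    have h12' : (t * r) • algebraMap E (FractionRing E) e₂ =
        (t * s) • algebraMap E (FractionRing E) (b : E) := by
      have h := congrArg (IsScalarTower.toAlgHom A E (FractionRing E)) h13
      rw [map_smul, map_smul] at h
      exact h
    have hbL : algebraMap E (FractionRing E) (b : E) ∈ L := by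
      have hle' : R₁ ≤ L.comap (IsScalarTower.toAlgHom A E (FractionRing E)) := by
        apply Algebra.adjoin_le
        intro y hy
        rw [Set.mem_singleton_iff] at hy
        rw [hy]
        exact h1L
      exact hle' b.2
    have hmem : t * r ∈ J := by
      rw [hJmem, h12']
      exact L.smul_mem hbL _
    exact ((inferInstance : p.IsPrime).mul_mem_iff_mem_or_mem.mp (hle hmem)).elim ht hr
  obtain ⟨s', hs'J, hs'⟩ := exists_mem_nonZeroDivisors_of_forall_not_le J hJ
  obtain ⟨y, hyL, hy⟩ := hL s' hs'
  have h15 : algebraMap E (FractionRing E) e₂ =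
      y * (s' • algebraMap E (FractionRing E) e₂) := by
    rw [Algebra.smul_def, ← mul_assoc, mul_comm y, hy, one_mul]
  rw [h15]
  exact L.mul_mem hyL ((hJmem s').mp hs'J)

/-- A unit of the total ring of fractions lying in `L` has its inverse in `L`. -/
theorem inv_mem_of_mul_eq_one (L : Subalgebra A (FractionRing E))
    (hL : ∀ s ∈ nonZeroDivisors A, ∃ y ∈ L, algebraMap A (FractionRing E) s * y = 1)
    {c d : FractionRing E} (hcd : c * d = 1) (hc : c ∈ L) : d ∈ L := by
  obtain ⟨s₁, hs₁, e₁, h1⟩ := exists_mul_eq_algebraMap (A := A) c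
  obtain ⟨s₂, hs₂, e₂, h2⟩ := exists_mul_eq_algebraMap (A := A) d
  have hinj : Function.Injective (algebraMap E (FractionRing E)) :=
    IsFractionRing.injective E (FractionRing E)
  have h12 : e₁ * e₂ = algebraMap A E (s₁ * s₂) := by
    apply hinj
    rw [map_mul, ← h1, ← h2, ← IsScalarTower.algebraMap_apply, map_mul]
    calc algebraMap A (FractionRing E) s₁ * c * (algebraMap A (FractionRing E) s₂ * d)
        = algebraMap A (FractionRing E) s₁ * algebraMap A (FractionRing E) s₂ * (c * d) := by
          ring
      _ = algebraMap A (FractionRing E) s₁ * algebraMap A (FractionRing E) s₂ := by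
          rw [hcd, mul_one]
  have h1L : algebraMap E (FractionRing E) e₁ ∈ L := by
    rw [← h1, ← Algebra.smul_def]
    exact L.smul_mem hc _
  have h2L := mem_of_mul_eq L hL (mul_mem hs₁ hs₂) h12 h1L
  obtain ⟨y, hyL, hy⟩ := hL s₂ hs₂
  have h3 : d = y * algebraMap E (FractionRing E) e₂ := by
    rw [← h2, ← mul_assoc, mul_comm y, hy, one_mul]
  rw [h3]
  exact L.mul_mem hyL h2L

theorem residue_comp_isIntegral [IsLocalRing A] [IsLocalRing E] [IsLocalHom (algebraMap A E)] :
    ((IsLocalRing.residue E).comp (algebraMap A E)).IsIntegral := by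
  haveI : Module.Finite (ResidueField A) (ResidueField E) := inferInstance
  have h1 : (algebraMap (ResidueField A) (ResidueField E)).IsIntegral :=
    algebraMap_isIntegral_iff.mpr inferInstance
  have h2 : (IsLocalRing.residue A).IsIntegral :=
    RingHom.isIntegral_of_surjective _ IsLocalRing.residue_surjective
  have h3 := RingHom.IsIntegral.trans _ _ h2 h1
  have heq : (algebraMap (ResidueField A) (ResidueField E)).comp (IsLocalRing.residue A) =
      (IsLocalRing.residue E).comp (algebraMap A E) := by
    ext a
    rfl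
  rw [← heq]
  exact h3

end Fib

section Extract

theorem of_isEssentiallyEtale (A E : Type u) [CommRing A] [IsLocalRing A] [IsNoetherianRing A]
    [CommRing E] [Algebra A E] (hE : EGA4loc.IsEssentiallyEtale A E) :
    Algebra.FormallyUnramified A E ∧ Algebra.EssFiniteType A E ∧ Module.Flat A E ∧
      IsNoetherianRing E := by
  obtain ⟨B, instB, instAB, q, hq, hEt, hqm, ⟨e⟩⟩ := hE
  haveI := hq
  haveI := hEt
  haveI : Algebra.FormallyUnramified B (Localization.AtPrime q) :=
    Algebra.FormallyUnramified.of_isLocalization q.primeCompl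
  haveI : Algebra.FormallyUnramified A (Localization.AtPrime q) :=
    Algebra.FormallyUnramified.comp A B _
  haveI : Algebra.EssFiniteType A (Localization.AtPrime q) := inferInstance
  haveI : Module.Flat A (Localization.AtPrime q) := Module.Flat.trans A B _
  haveI : IsNoetherianRing B := Algebra.FiniteType.isNoetherianRing A B
  haveI : IsNoetherianRing (Localization.AtPrime q) :=
    IsLocalization.isNoetherianRing q.primeCompl _ inferInstance
  exact ⟨Algebra.FormallyUnramified.of_equiv e.symm,
    (Algebra.EssFiniteType.iff_of_algEquiv e).mpr inferInstance,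
    Module.Flat.of_linearEquiv e.toLinearEquiv,
    isNoetherianRing_of_ringEquiv (Localization.AtPrime q) e.symm.toRingEquiv⟩

end Extract

end Groth.Agent.Helper7.SemiNorm
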