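import Mathlib
import Groth.Prelude
import Groth.Agent.Lib.Helper8.IntClSemi3

/-!
# The integral closure of a Noetherian local ring in its total ring of fractions is semi-local

Generalisation (same proof) of `Groth.Agent.Helper8.IntClSemi.finite_maximal` from domains to
arbitrary Noetherian local rings.
-/

set_option linter.style.haveILetI false
set_option linter.unusedVariables false
set_option linter.unusedSectionVars false
set_option linter.overlappingInstances false
set_option autoImplicit false
set_option backward.isDefEq.respectTransparency.types false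
set_option backward.isDefEq.respectTransparency false
set_option synthInstance.maxHeartbeats 400000
set_option maxHeartbeats 1600000

universe u

open IsLocalRing TensorProduct

namespace Groth.Agent.Helper7.SemiNorm

section Semi

variable (R : Type u) [CommRing R] [IsLocalRing R] [IsNoetherianRing R]
  (W : Type u) [CommRing W] [Algebra R W] [Algebra.IsIntegral R W]

/-- Lying over for maximal ideals along `W → R̂ ⊗ W`. -/
theorem exists_maximal_comap_eq (n' : Ideal W) [n'.IsMaximal] :
    ∃ M : Ideal (AdicCompletion (maximalIdeal R) R ⊗[R] W), M.IsMaximal ∧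
      M.comap (Algebra.TensorProduct.includeRight :
        W →ₐ[R] AdicCompletion (maximalIdeal R) R ⊗[R] W).toRingHom
        = n' := by
  haveI : Module.FaithfullyFlat R (AdicCompletion (maximalIdeal R) R) :=
    Module.FaithfullyFlat.of_flat_of_isLocalHom
  obtain ⟨M₁, hM₁⟩ := PrimeSpectrum.comap_surjective_of_faithfullyFlat
    (A := W)
    (B := W ⊗[R] AdicCompletion (maximalIdeal R) R) ⟨n', inferInstance⟩
  let c := (Algebra.TensorProduct.comm R (AdicCompletion (maximalIdeal R) R)
    W).toAlgHom.toRingHom
  let M' := M₁.asIdeal.comap c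
  haveI : M'.IsPrime := Ideal.comap_isPrime c _
  have hM' : M'.comap (Algebra.TensorProduct.includeRight :
        W →ₐ[R] AdicCompletion (maximalIdeal R) R ⊗[R] W).toRingHom
        = n' := by
    have h1 : (PrimeSpectrum.comap (algebraMap W
        (W ⊗[R] AdicCompletion (maximalIdeal R) R)) M₁).asIdeal = n' :=
      congrArg PrimeSpectrum.asIdeal hM₁
    rw [← h1]
    ext a
    simp only [M', Ideal.mem_comap]
    rfl
  obtain ⟨M, hMmax, hMle⟩ := Ideal.exists_le_maximal M' (Ideal.IsPrime.ne_top inferInstance)
  refine ⟨M, hMmax, ?_⟩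
  have hle : n' ≤ M.comap (Algebra.TensorProduct.includeRight :
        W →ₐ[R] AdicCompletion (maximalIdeal R) R ⊗[R] W).toRingHom := by
    rw [← hM']
    exact Ideal.comap_mono hMle
  have hne : M.comap (Algebra.TensorProduct.includeRight :
        W →ₐ[R] AdicCompletion (maximalIdeal R) R ⊗[R] W).toRingHom
        ≠ ⊤ := Ideal.comap_ne_top _ hMmax.ne_top
  exact ((inferInstance : n'.IsMaximal).eq_of_le hne hle).symm

/-- The quotient of `R̂ ⊗ W` by a prime is a local domain. -/
theorem isLocalRing_quotient
    (Q : Ideal (AdicCompletion (maximalIdeal R) R ⊗[R] W)) [Q.IsPrime] :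
    IsLocalRing ((AdicCompletion (maximalIdeal R) R ⊗[R] W) ⧸ Q) := by
  haveI : HenselianLocalRing (AdicCompletion (maximalIdeal R) R) :=
    Groth.Agent.Helper8.GRing.henselianLocalRing_of_isAdicComplete _
  haveI : Algebra.IsIntegral (AdicCompletion (maximalIdeal R) R)
      ((AdicCompletion (maximalIdeal R) R ⊗[R] W) ⧸ Q) :=
    Algebra.IsIntegral.of_surjective
      (A := AdicCompletion (maximalIdeal R) R ⊗[R] W)
      (Ideal.Quotient.mkₐ (AdicCompletion (maximalIdeal R) R) Q) Ideal.Quotient.mk_surjective
  exact Groth.Agent.Helper8.IntClSemi.isLocalRing_of_integral_domain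
    (AdicCompletion (maximalIdeal R) R)
    ((AdicCompletion (maximalIdeal R) R ⊗[R] W) ⧸ Q)

theorem finite_maximal_of_finite_minimalPrimes
    (hfin : (minimalPrimes (AdicCompletion (maximalIdeal R) R ⊗[R] W)).Finite) :
    {m : Ideal W | m.IsMaximal}.Finite := by
  classical
  let ι' := (Algebra.TensorProduct.includeRight :
        W →ₐ[R] AdicCompletion (maximalIdeal R) R ⊗[R] W).toRingHom
  let F : ∀ Q ∈ minimalPrimes (AdicCompletion (maximalIdeal R) R ⊗[R] W),
      Ideal W := fun Q hQ =>
    haveI : Q.IsPrime := hQ.isPrime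
    haveI := isLocalRing_quotient R W Q
    (maximalIdeal ((AdicCompletion (maximalIdeal R) R ⊗[R] W) ⧸ Q)).comap
      ((Ideal.Quotient.mk Q).comp ι')
  refine (Set.Finite.dependent_image hfin F).subset ?_
  intro n' hn'
  haveI : n'.IsMaximal := hn'
  obtain ⟨M, hMmax, hM⟩ := exists_maximal_comap_eq R W n'
  obtain ⟨Q, hQ, hQM⟩ := Ideal.exists_minimalPrimes_le (bot_le : ⊥ ≤ M)
  refine ⟨Q, hQ, ?_⟩
  haveI : Q.IsPrime := hQ.isPrime
  haveI := isLocalRing_quotient R W Q
  have hcm : (M.map (Ideal.Quotient.mk Q)).comap (Ideal.Quotient.mk Q) = M := by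
    rw [Ideal.comap_map_of_surjective _ Ideal.Quotient.mk_surjective,
      ← RingHom.ker_eq_comap_bot, Ideal.mk_ker, sup_eq_left.mpr hQM]
  have hne : M.map (Ideal.Quotient.mk Q) ≠ ⊤ := by
    intro h
    rw [h, Ideal.comap_top] at hcm
    exact hMmax.ne_top hcm.symm
  have hmax : (M.map (Ideal.Quotient.mk Q)).IsMaximal :=
    (Ideal.map_eq_top_or_isMaximal_of_surjective _ Ideal.Quotient.mk_surjective hMmax).resolve_left
      hne
  have h1 : M.map (Ideal.Quotient.mk Q) =
      maximalIdeal ((AdicCompletion (maximalIdeal R) R ⊗[R] W) ⧸ Q) :=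
    IsLocalRing.eq_maximalIdeal
      (R := (AdicCompletion (maximalIdeal R) R ⊗[R] W) ⧸ Q) hmax
  show Ideal.comap ((Ideal.Quotient.mk Q).comp ι')
    (maximalIdeal ((AdicCompletion (maximalIdeal R) R ⊗[R] W) ⧸ Q)) = n'
  rw [← h1, ← Ideal.comap_comap, hcm, hM]

end Semi

section App

variable (E : Type u) [CommRing E] [IsLocalRing E] [IsNoetherianRing E]

theorem finite_maximal_integralClosure :
    {m : Ideal (integralClosure E (FractionRing E)) | m.IsMaximal}.Finite := by
  apply finite_maximal_of_finite_minimalPrimes E (integralClosure E (FractionRing E))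
  haveI : IsNoetherianRing (AdicCompletion (maximalIdeal E) E) :=
    Groth.Agent.Helper8.AdicReg.isNoetherianRing E _
  haveI : IsNoetherianRing (AdicCompletion (maximalIdeal E) E ⊗[E] FractionRing E) :=
    IsLocalization.isNoetherianRing
      (Algebra.algebraMapSubmonoid (AdicCompletion (maximalIdeal E) E) (nonZeroDivisors E)) _
      inferInstance
  let jr : AdicCompletion (maximalIdeal E) E ⊗[E] integralClosure E (FractionRing E) →ₐ[E]
      AdicCompletion (maximalIdeal E) E ⊗[E] FractionRing E :=
    Algebra.TensorProduct.map (AlgHom.id E _) (integralClosure E (FractionRing E)).val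
  have hjr : Function.Injective jr := by
    have h := Module.Flat.lTensor_preserves_injective_linearMap
      (M := AdicCompletion (maximalIdeal E) E)
      (integralClosure E (FractionRing E)).val.toLinearMap Subtype.val_injective
    exact h
  exact Groth.Agent.Helper8.IntClSemi.finite_minimalPrimes_of_injective jr.toRingHom hjr

/-- The same statement for the integral closure viewed as a subalgebra over a smaller ring. -/
theorem finite_maximal_restrictScalars (A : Type u) [CommRing A] [Algebra A E] :
    {m : Ideal ((integralClosure E (FractionRing E)).restrictScalars A) | m.IsMaximal}.Finite := by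
  let S := integralClosure E (FractionRing E)
  let e : (S.restrictScalars A) ≃+* S :=
    { toFun := fun x => ⟨x.1, x.2⟩
      invFun := fun x => ⟨x.1, x.2⟩
      left_inv := fun _ => rfl
      right_inv := fun _ => rfl
      map_mul' := fun _ _ => rfl
      map_add' := fun _ _ => rfl }
  have hfin := finite_maximal_integralClosure E
  refine (hfin.image (Ideal.comap e.toRingHom)).subset ?_
  intro M hM
  haveI : M.IsMaximal := hM
  refine ⟨M.comap e.symm.toRingHom, ?_, ?_⟩
  · exact Ideal.comap_isMaximal_of_surjective e.symm.toRingHom e.symm.surjective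
  · rw [Ideal.comap_comap]
    have h1 : e.symm.toRingHom.comp e.toRingHom = RingHom.id _ := by
      ext x
      rfl
    rw [h1, Ideal.comap_id]

end App

end Groth.Agent.Helper7.SemiNorm
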