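import Mathlib
import Groth.Prelude
import Groth.Agent.Lib.Helper7.SemiNorm.Basic
import Groth.Agent.Lib.Helper7.SemiNorm.Semi

/-!
# `L ∩ E'` for an essentially étale local algebra `E` over a reduced Noetherian local ring
-/

set_option linter.style.haveILetI false
set_option linter.unusedVariables false
set_option linter.unusedSectionVars false
set_option linter.overlappingInstances false
set_option autoImplicit false
set_option backward.isDefEq.respectTransparency.types false
set_option backward.isDefEq.respectTransparency false
set_option synthInstance.maxHeartbeats 400000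
set_option maxHeartbeats 1600000

universe u

open IsLocalRing TensorProduct Polynomial

namespace Groth.Agent.Helper7.SemiNorm

section Max

variable {A E : Type u} [CommRing A] [IsLocalRing A] [IsReduced A] [IsNoetherianRing A]
  [CommRing E] [IsLocalRing E] [Algebra A E] [IsLocalHom (algebraMap A E)]
  [Algebra.FormallyUnramified A E] [Algebra.EssFiniteType A E] [Module.Flat A E]

/-- The contraction of a maximal ideal of the normalization `E'` to a subalgebra `C ≤ E'` is
maximal (the residue fields of `E'` are algebraic over the residue field of `A`). -/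
theorem comap_inclusion_isMaximal (C : Subalgebra A (FractionRing E))
    (hle : C ≤ (integralClosure E (FractionRing E)).restrictScalars A)
    (M : Ideal ((integralClosure E (FractionRing E)).restrictScalars A)) [M.IsMaximal] :
    (M.comap (Subalgebra.inclusion hle)).IsMaximal := by
  classical
  let ι : E →+* ((integralClosure E (FractionRing E)).restrictScalars A) :=
    { toFun := fun e => ⟨algebraMap E (FractionRing E) e, isIntegral_algebraMap⟩
      map_one' := Subtype.ext (map_one _)
      map_mul' := fun a b => Subtype.ext (map_mul _ a b)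
      map_zero' := Subtype.ext (map_zero _)
      map_add' := fun a b => Subtype.ext (map_add _ a b) }
  have hval : ∀ e : E, ((ι e : (integralClosure E (FractionRing E)).restrictScalars A) :
      FractionRing E) = algebraMap E (FractionRing E) e := fun e => rfl
  have hι : ι.IsIntegral := by
    intro w
    obtain ⟨f, hf, hf0⟩ := w.2
    refine ⟨f, hf, ?_⟩
    apply Subtype.ext
    have h := Polynomial.hom_eval₂ f ι
      ((integralClosure E (FractionRing E)).restrictScalars A).val.toRingHom w
    have hcomp : (((integralClosure E (FractionRing E)).restrictScalars A).val.toRingHom).comp ι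
        = algebraMap E (FractionRing E) := by
      ext e
      rfl
    rw [hcomp] at h
    exact h.trans hf0
  haveI hcmax : (M.comap ι).IsMaximal :=
    Ideal.isMaximal_comap_of_isIntegral_of_isMaximal' ι hι M
  have hcomap : M.comap ι = maximalIdeal E := IsLocalRing.eq_maximalIdeal hcmax
  let f₁ : A →+* E ⧸ (M.comap ι) := (Ideal.Quotient.mk _).comp (algebraMap A E)
  have hf₁ : f₁.IsIntegral := by
    intro z
    obtain ⟨e, rfl⟩ := Ideal.Quotient.mk_surjective z
    obtain ⟨g, hg, hg0⟩ := residue_comp_isIntegral (A := A) (E := E) (IsLocalRing.residue E e)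
    refine ⟨g, hg, ?_⟩
    have h1 : IsLocalRing.residue E (g.eval₂ (algebraMap A E) e) = 0 := by
      rw [Polynomial.hom_eval₂]
      exact hg0
    have h2 : g.eval₂ (algebraMap A E) e ∈ M.comap ι := by
      rw [hcomap]
      exact (IsLocalRing.residue_eq_zero_iff _).mp h1
    have h3 : Ideal.Quotient.mk (M.comap ι) (g.eval₂ (algebraMap A E) e) = 0 :=
      Ideal.Quotient.eq_zero_iff_mem.mpr h2
    rw [Polynomial.hom_eval₂] at h3
    exact h3
  let f₂ : E ⧸ (M.comap ι) →+* ((integralClosure E (FractionRing E)).restrictScalars A) ⧸ M :=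
    Ideal.quotientMap M ι le_rfl
  have hf₂ : f₂.IsIntegral := RingHom.IsIntegral.quotient ι hι
  have hf₂₁ : (f₂.comp f₁).IsIntegral :=
    RingHom.IsIntegral.trans (R := A) (S := E ⧸ (M.comap ι))
      (T := (↥((integralClosure E (FractionRing E)).restrictScalars A)) ⧸ M) f₁ f₂ hf₁ hf₂
  -- the subalgebra side
  let incl : C →+* ((integralClosure E (FractionRing E)).restrictScalars A) :=
    (Subalgebra.inclusion hle).toRingHom
  have hNeq : M.comap (Subalgebra.inclusion hle) = M.comap incl := rfl
  rw [hNeq]
  haveI hNprime : (M.comap incl).IsPrime := Ideal.comap_isPrime incl M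
  let j : C ⧸ (M.comap incl) →+* ((integralClosure E (FractionRing E)).restrictScalars A) ⧸ M :=
    Ideal.quotientMap M incl le_rfl
  have hj : Function.Injective j := Ideal.quotientMap_injective' le_rfl
  let φC : A →+* C ⧸ (M.comap incl) := (Ideal.Quotient.mk _).comp (algebraMap A C)
  have hιalg : ∀ a : A, ι (algebraMap A E a) =
      algebraMap A ((integralClosure E (FractionRing E)).restrictScalars A) a := by
    intro a
    apply Subtype.ext
    rw [hval]
    exact (IsScalarTower.algebraMap_apply A E (FractionRing E) a).symm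
  have hjφ : j.comp φC = f₂.comp f₁ := by
    ext a
    show Ideal.Quotient.mk M (incl (algebraMap A C a)) =
      Ideal.Quotient.mk M (ι (algebraMap A E a))
    rw [hιalg]
    rfl
  have hφC : φC.IsIntegral := by
    intro z
    obtain ⟨g, hg, hg0⟩ := hf₂₁ (j z)
    refine ⟨g, hg, hj ?_⟩
    rw [map_zero, Polynomial.hom_eval₂, hjφ]
    exact hg0
  have hker : (⊥ : Ideal (C ⧸ (M.comap incl))).comap φC = maximalIdeal A := by
    ext a
    have h1 : a ∈ (⊥ : Ideal (C ⧸ (M.comap incl))).comap φC ↔
        algebraMap A C a ∈ M.comap incl := by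
      rw [Ideal.mem_comap, Ideal.mem_bot]
      exact Ideal.Quotient.eq_zero_iff_mem
    have h2 : algebraMap A C a ∈ M.comap incl ↔ algebraMap A E a ∈ M.comap ι := by
      rw [Ideal.mem_comap, Ideal.mem_comap, hιalg]
      rfl
    rw [h1, h2, hcomap]
    constructor
    · intro h
      by_contra hna
      have hu : IsUnit a := by
        by_contra hnu
        exact hna ((IsLocalRing.mem_maximalIdeal a).mpr hnu)
      exact ((IsLocalRing.mem_maximalIdeal _).mp h) (hu.map (algebraMap A E))
    · intro h
      rw [IsLocalRing.mem_maximalIdeal, mem_nonunits_iff] at h ⊢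
      intro hu
      exact h ((isUnit_map_iff (algebraMap A E) a).mp hu)
  haveI : IsDomain (C ⧸ (M.comap incl)) := Ideal.Quotient.isDomain _
  have hkm : ((⊥ : Ideal (C ⧸ (M.comap incl))).comap φC).IsMaximal := by
    rw [hker]
    exact maximalIdeal.isMaximal A
  have hbot : (⊥ : Ideal (C ⧸ (M.comap incl))).IsMaximal :=
    Ideal.isMaximal_of_isIntegral_of_isMaximal_comap' (R := A) (S := C ⧸ (M.comap incl))
      φC hφC ⊥ hkm
  have h3 := Ideal.comap_isMaximal_of_surjective (Ideal.Quotient.mk (M.comap incl))
    Ideal.Quotient.mk_surjective (K := ⊥)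
  rwa [← RingHom.ker_eq_comap_bot, Ideal.mk_ker] at h3

end Max

section Main

theorem main
    (A E : Type u) [CommRing A] [IsLocalRing A] [IsReduced A] [IsNoetherianRing A]
    [CommRing E] [IsLocalRing E] [Algebra A E] [IsLocalHom (algebraMap A E)]
    (hE : EGA4loc.IsEssentiallyEtale A E) (L : Subalgebra A (FractionRing E))
    (hL : ∀ s ∈ nonZeroDivisors A, ∃ y ∈ L, algebraMap A (FractionRing E) s * y = 1)
    (C : Subalgebra A (FractionRing E))
    (hC : C = L ⊓ (integralClosure E (FractionRing E)).restrictScalars A) :
    (∀ x ∈ L, IsIntegral C x → x ∈ C) ∧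
      {N : Ideal C | N.IsMaximal}.Finite ∧
      (∀ N : Ideal C, N.IsMaximal ↔
        ∃ M : Ideal ((integralClosure E (FractionRing E)).restrictScalars A),
          M.IsMaximal ∧ N = M.comap (Subalgebra.inclusion (hC.trans_le inf_le_right))) ∧
      ∀ l ∈ L, ∃ c ∈ C, ∃ s ∈ nonZeroDivisors A, ∃ y ∈ L,
        algebraMap A (FractionRing E) s * y = 1 ∧ l = c * y := by
  classical
  obtain ⟨hunr, hess, hflat, hnoeth⟩ := of_isEssentiallyEtale A E hE
  haveI := hunr
  haveI := hess
  haveI := hflat
  haveI := hnoeth
  have hle : C ≤ (integralClosure E (FractionRing E)).restrictScalars A :=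
    hC.trans_le inf_le_right
  have hmemC : ∀ x : FractionRing E, x ∈ C ↔ x ∈ L ∧ IsIntegral E x := by
    intro x
    rw [hC, Algebra.mem_inf]
    exact Iff.rfl
  have hfinM := finite_maximal_restrictScalars E A
  -- units of `C`
  have hunit : ∀ c : C,
      (∀ M : Ideal ((integralClosure E (FractionRing E)).restrictScalars A), M.IsMaximal →
        Subalgebra.inclusion hle c ∉ M) → IsUnit c := by
    intro c hc
    have h1 : IsUnit (Subalgebra.inclusion hle c) := by
      by_contra hnu
      obtain ⟨M, hM, hcM⟩ := exists_max_ideal_of_mem_nonunits hnu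
      exact hc M hM hcM
    obtain ⟨d, hd⟩ := h1.exists_right_inv
    have hcd : (c : FractionRing E) * (d : FractionRing E) = 1 := by
      have h := congrArg Subtype.val hd
      exact h
    have hdL : (d : FractionRing E) ∈ L :=
      inv_mem_of_mul_eq_one L hL hcd ((hmemC c.1).mp c.2).1
    have hdC : (d : FractionRing E) ∈ C := (hmemC _).mpr ⟨hdL, d.2⟩
    refine isUnit_iff_exists_inv.mpr ⟨⟨d.1, hdC⟩, Subtype.ext ?_⟩
    exact hcd
  -- every maximal ideal of `C` is a contraction
  have hcontr : ∀ N : Ideal C, N.IsMaximal →
      ∃ M : Ideal ((integralClosure E (FractionRing E)).restrictScalars A),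
        M.IsMaximal ∧ N = M.comap (Subalgebra.inclusion hle) := by
    intro N hN
    obtain ⟨M, hM, hle'⟩ := (Ideal.subset_union_prime (R := C) (s := hfinM.toFinset)
        (f := fun M => M.comap (Subalgebra.inclusion hle)) ⊥ ⊥
        (fun M hM _ _ => by
          haveI : M.IsMaximal := hfinM.mem_toFinset.mp hM
          exact Ideal.comap_isPrime (Subalgebra.inclusion hle) M)).mp (by
      intro c hcN
      by_contra h2
      have hu : IsUnit c := hunit c (fun M hM hcM => h2 (Set.mem_iUnion₂.mpr
        ⟨M, Finset.mem_coe.mpr (hfinM.mem_toFinset.mpr hM), hcM⟩))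
      exact hN.ne_top (Ideal.eq_top_of_isUnit_mem _ hcN hu))
    have hMmax : M.IsMaximal := hfinM.mem_toFinset.mp hM
    refine ⟨M, hMmax, ?_⟩
    haveI := hMmax
    have hne : M.comap (Subalgebra.inclusion hle) ≠ ⊤ :=
      (Ideal.comap_isPrime (Subalgebra.inclusion hle) M).ne_top
    exact hN.eq_of_le hne hle'
  refine ⟨?_, ?_, ?_, ?_⟩
  · -- integrally closed in `L`
    intro x hxL hx
    rw [hmemC]
    refine ⟨hxL, ?_⟩
    let i : C →+* integralClosure E (FractionRing E) :=
      { toFun := fun c => ⟨c.1, ((hmemC c.1).mp c.2).2⟩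
        map_one' := rfl
        map_mul' := fun _ _ => rfl
        map_zero' := rfl
        map_add' := fun _ _ => rfl }
    have h1 : IsIntegral (integralClosure E (FractionRing E)) x :=
      IsIntegral.map_of_comp_eq (R := C) (S := FractionRing E)
        (T := integralClosure E (FractionRing E)) (U := FractionRing E) i (RingHom.id _)
        (by ext c; rfl) hx
    exact isIntegral_trans x h1
  · -- finitely many maximal ideals
    refine (hfinM.image (fun M => M.comap (Subalgebra.inclusion hle))).subset ?_
    intro N hN
    obtain ⟨M, hM, hNM⟩ := hcontr N hN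
    exact ⟨M, hM, hNM.symm⟩
  · intro N
    constructor
    · exact hcontr N
    · rintro ⟨M, hM, hNM⟩
      haveI := hM
      rw [hNM]
      exact comap_inclusion_isMaximal C hle M
  · intro l hl
    obtain ⟨s, hs, e, he⟩ := exists_mul_eq_algebraMap (A := A) l
    obtain ⟨y, hyL, hy⟩ := hL s hs
    refine ⟨algebraMap A (FractionRing E) s * l, ?_, s, hs, y, hyL, hy, ?_⟩
    · rw [hmemC]
      constructor
      · rw [← Algebra.smul_def]
        exact L.smul_mem hl s
      · rw [he]
        exact isIntegral_algebraMap
    · calc l = l * (algebraMap A (FractionRing E) s * y) := by rw [hy, mul_one]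
        _ = algebraMap A (FractionRing E) s * l * y := by ring

end Main

end Groth.Agent.Helper7.SemiNorm
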